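import Cfsg.Agent.Lib.DefectZero.SplitBN
import Cfsg.Agent.Lib.Blocks.DefectOneIdem
import Cfsg.Agent.Lib.Blocks.DefectZeroProducts
import Cfsg.Agent.Lib.Blocks.BlockAlgebra

/-!
# The modular idempotent of a character of defect zero, and uniqueness in split BN-pairs
-/

set_option linter.unusedSectionVars false
set_option linter.unusedVariables false
set_option linter.style.haveILetI false
set_option autoImplicit false
set_option synthInstance.maxHeartbeats 200000

namespace CfsgLib.DefectZeroBN

open Cfsg CfsgLib.CharTheory CfsgLib.Blocks MonoidAlgebra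
open scoped ComplexConjugate Classical

universe u

variable {G : Type u} [Group G] [Fintype G]

theorem card_fiber (r g : G) (h : IsConj r g) :
    (Finset.univ.filter fun x : G => x * r * x⁻¹ = g).card =
      Nat.card (Subgroup.centralizer ({r} : Set G)) := by
  obtain ⟨x0, hx0⟩ := isConj_iff.1 h
  rw [Nat.card_eq_fintype_card, Fintype.card_subtype]
  refine Finset.card_nbij' (fun x => x0⁻¹ * x) (fun c => x0 * c) ?_ ?_ ?_ ?_
  · intro x hx
    simp only [Finset.coe_filter, Finset.mem_univ, true_and, Set.mem_setOf_eq,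
      Subgroup.mem_centralizer_singleton_iff] at hx ⊢
    calc x0⁻¹ * x * r = x0⁻¹ * (x * r * x⁻¹) * x := by group
      _ = x0⁻¹ * g * x := by rw [hx]
      _ = r * (x0⁻¹ * x) := by rw [← hx0]; group
  · intro c hc
    simp only [Finset.coe_filter, Finset.mem_univ, true_and, Set.mem_setOf_eq,
      Subgroup.mem_centralizer_singleton_iff] at hc ⊢
    calc x0 * c * r * (x0 * c)⁻¹ = x0 * (c * r) * c⁻¹ * x0⁻¹ := by group
      _ = x0 * (r * c) * c⁻¹ * x0⁻¹ := by rw [hc]
      _ = g := by rw [← hx0]; group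
  · intro x _; simp
  · intro c _; simp

/-- Summing over the conjugates of a representative. -/
theorem sum_conj_eq {A : Type*} [AddCommMonoid A] (r : G) (f : G → A) :
    ∑ x : G, f (x * r * x⁻¹) = Nat.card (Subgroup.centralizer ({r} : Set G)) •
      ∑ g ∈ Finset.univ.filter (fun g => IsConj r g), f g := by
  rw [← Finset.sum_fiberwise_of_maps_to (s := Finset.univ)
    (t := Finset.univ.filter fun g => IsConj r g) (g := fun x : G => x * r * x⁻¹)
    (fun x _ => by simpa using isConj_iff.2 ⟨x, rfl⟩), Finset.smul_sum]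
  refine Finset.sum_congr rfl fun g hg => ?_
  rw [Finset.sum_congr rfl (fun x hx => show f (x * r * x⁻¹) = f g by
    rw [(Finset.mem_filter.1 hx).2]), Finset.sum_const, card_fiber r g (Finset.mem_filter.1 hg).2]

/-- The chosen representative. -/
noncomputable def rep (C : ConjClasses G) : G := Quotient.out C

theorem mk_rep (C : ConjClasses G) : ConjClasses.mk (rep C) = C := Quotient.out_eq C

theorem sum_classes {A : Type*} [AddCommMonoid A] (f : G → A) :
    ∑ g, f g = ∑ C : ConjClasses G, ∑ g ∈ Finset.univ.filter (fun g => IsConj (rep C) g), f g := by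
  rw [← Finset.sum_fiberwise_of_maps_to (s := Finset.univ) (t := Finset.univ)
    (g := fun g : G => ConjClasses.mk g) (fun _ _ => Finset.mem_univ _)]
  refine Finset.sum_congr rfl fun C _ => Finset.sum_congr ?_ fun _ _ => rfl
  ext g
  simp only [Finset.mem_filter, Finset.mem_univ, true_and]
  constructor
  · intro h; rw [← ConjClasses.mk_eq_mk_iff_isConj, h, mk_rep]
  · intro h; rw [← ConjClasses.mk_eq_mk_iff_isConj.2 h, mk_rep]

section

variable {p : ℕ} {M : Ideal AlgInt}

theorem exists_traceIdem (hM : IsPModular p M) (χ : IrrCharacter G) (hχ : IsDefZero p χ) :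
    haveI := hM.2.1
    letI := Ideal.Quotient.field M
    ∃ e : MonoidAlgebra (AlgInt ⧸ M) G, IsTrace e ∧ e ≠ 0 ∧
      ∀ g, e.coeff g = res hM (DefectOne.idemC χ g) ∧ MemLocalRing M (DefectOne.idemC χ g) := by
  haveI := hM.2.1
  letI := Ideal.Quotient.field M
  haveI := res_charP hM
  set d := charDegree (χ : G → ℂ) with hd
  obtain ⟨m, hm⟩ := charDegree_dvd_card χ
  have hm0 : m ≠ 0 := by rintro rfl; exact (Nat.card_pos (α := G)).ne' (by simpa using hm)
  have hd0 : d ≠ 0 := (irr_charDegree_pos χ).ne'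
  have hpm : ¬ p ∣ m := by
    intro hdv
    have h := congrArg (fun n => n.factorization p) hm
    simp only [← hd] at h
    rw [Nat.factorization_mul hd0 hm0] at h
    simp only [Finsupp.coe_add, Pi.add_apply] at h
    have h1 : 0 < m.factorization p := hM.1.factorization_pos_of_dvd hm0 hdv
    have h2 : d.factorization p = (Nat.card G).factorization p := hχ
    omega
  have hminv : MemLocalRing M ((m : ℂ)⁻¹) := by
    refine memRing_inv hM (memRing_natCast hM m) fun h => hpm ?_
    have h1 := (res_eq_zero_iff hM (memRing_natCast hM m)).2 h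
    rwa [res_natCast, CharP.cast_eq_zero_iff (AlgInt ⧸ M) p] at h1
  have h1 : (χ : G → ℂ) 1 = (d : ℂ) := by rw [hd, irr_charDegree_cast]
  have hcardC : (Nat.card G : ℂ) = (χ : G → ℂ) 1 * m := by rw [h1, hm]; push_cast; rfl
  have hm0' : (m : ℂ) ≠ 0 := Nat.cast_ne_zero.2 hm0
  set ε : G → ℂ := DefectOne.idemC χ with hε
  have hεint : ∀ g, MemLocalRing M (ε g) := by
    intro g
    have : ε g = (m : ℂ)⁻¹ * (χ : G → ℂ) g⁻¹ := by
      rw [hε, DefectOne.idemC, irr_conjInv, hcardC]
      field_simp [irr_one_ne_zero χ]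
    rw [this]
    exact (loc hM).mul_mem hminv (memRing_irr hM χ _)
  set b : G → ℂ := fun g => (m : ℂ)⁻¹ * (m : ℂ)⁻¹ * clv g (conjIrr χ) with hb
  have hbint : ∀ g, MemLocalRing M (b g) := fun g =>
    (loc hM).mul_mem ((loc hM).mul_mem hminv hminv) (memRing_clv hM g _)
  have hεb : ∀ g, ε g = (Nat.card (Subgroup.centralizer ({g} : Set G)) : ℂ) * b g := by
    intro g
    have hidx : ((Subgroup.centralizer ({g} : Set G)).index : ℂ) *
        Nat.card (Subgroup.centralizer ({g} : Set G)) = Nat.card G := by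
      exact_mod_cast Subgroup.index_mul_card _
    rw [hb, hε, DefectOne.idemC]
    simp only [clv, centralChar, conjIrr_apply, irr_one_conj]
    rw [hcardC] at hidx ⊢
    have := irr_one_ne_zero χ
    field_simp
    linear_combination -(conj ((χ : G → ℂ) g)) * hidx
  set e : MonoidAlgebra (AlgInt ⧸ M) G := ∑ g, res hM (ε g) • g' (AlgInt ⧸ M) g with he
  have hclass : ∀ x g, ε (x * g * x⁻¹) = ε g := fun x g => DefectOne.idemC_class χ g x
  have hone : ∑ C : ConjClasses G, ε (rep C) * clv (rep C) χ = 1 := by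
    have hS : ∑ g, ε g * (χ : G → ℂ) g = (χ : G → ℂ) 1 := by
      have h := classInner_irr_self χ.2
      unfold classInner at h
      calc ∑ g, ε g * (χ : G → ℂ) g
          = (χ : G → ℂ) 1 * ((Nat.card G : ℂ)⁻¹ * ∑ g, (χ : G → ℂ) g * conj ((χ : G → ℂ) g)) := by
            simp only [hε, DefectOne.idemC, Finset.mul_sum]
            exact Finset.sum_congr rfl fun g _ => by ring
        _ = _ := by rw [h, mul_one]
    rw [sum_classes] at hS
    have hC : ∀ C : ConjClasses G, ∑ g ∈ Finset.univ.filter (fun g => IsConj (rep C) g),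
        ε g * (χ : G → ℂ) g = (χ : G → ℂ) 1 * (ε (rep C) * clv (rep C) χ) := by
      intro C
      rw [Finset.sum_congr rfl (g := fun _ => ε (rep C) * (χ : G → ℂ) (rep C)) (fun g hg => by
        obtain ⟨c, rfl⟩ := isConj_iff.1 (Finset.mem_filter.1 hg).2
        rw [hclass, irr_isClassFun χ _ c]), Finset.sum_const, nsmul_eq_mul]
      have hcard : (Finset.univ.filter fun g => IsConj (rep C) g).card =
          (Subgroup.centralizer ({rep C} : Set G)).index := by
        have h := sum_conj_eq (rep C) (fun _ => (1 : ℕ))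
        simp only [Finset.sum_const, smul_eq_mul, mul_one, Finset.card_univ] at h
        rw [← Nat.card_eq_fintype_card, ← Subgroup.card_mul_index
          (Subgroup.centralizer ({rep C} : Set G))] at h
        exact (Nat.eq_of_mul_eq_mul_left Nat.card_pos h).symm
      rw [hcard, clv, centralChar]
      field_simp [irr_one_ne_zero χ]
    rw [Finset.sum_congr rfl fun C _ => hC C, ← Finset.mul_sum] at hS
    exact (mul_eq_left₀ (irr_one_ne_zero χ)).1 hS
  have hcoeff : ∀ g, e.coeff g = res hM (ε g) := fun g => by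
    rw [he]
    simp [g', MonoidAlgebra.of_apply, Finsupp.single_apply]
  refine ⟨e, ⟨fun x => ?_, ?_, ⟨∑ C : ConjClasses G, res hM (b (rep C)) • g' (AlgInt ⧸ M) (rep C), ?_⟩⟩,
    ?_, fun g => ⟨hcoeff g, hεint g⟩⟩
  · rw [he, Finset.mul_sum, Finset.sum_mul]
    refine Fintype.sum_equiv (MulAut.conj x).toEquiv _ _ fun g => ?_
    show g' _ x * (res hM (ε g) • g' _ g) =
      (res hM (ε (x * g * x⁻¹)) • g' _ (x * g * x⁻¹)) * g' _ x
    rw [hclass, mul_smul_comm, smul_mul_assoc, g', g', g', ← map_mul, ← map_mul, inv_mul_cancel_right]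
  · rw [he, Finset.sum_mul_sum]
    simp only [smul_mul_smul_comm, g', ← map_mul]
    rw [Finset.sum_congr rfl (fun a _ => Fintype.sum_equiv (Equiv.mulLeft a)
      (fun c => (res hM (ε a) * res hM (ε c)) • MonoidAlgebra.of (AlgInt ⧸ M) G (a * c))
      (fun c => (res hM (ε a) * res hM (ε (a⁻¹ * c))) • MonoidAlgebra.of (AlgInt ⧸ M) G c)
      (fun c => by simp)), Finset.sum_comm]
    refine Finset.sum_congr rfl fun c _ => ?_
    rw [← Finset.sum_smul]
    congr 1
    have hconv := DefectOne.idemC_conv χ χ c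
    rw [if_pos rfl, ← hε] at hconv
    rw [← hconv, res_sum hM (fun a _ => (loc hM).mul_mem (hεint a) (hεint _))]
    exact Finset.sum_congr rfl fun a _ => (res_mul hM (hεint a) (hεint _)).symm
  · simp only [Finset.mul_sum, Finset.sum_mul, mul_smul_comm, smul_mul_assoc, g', ← map_mul]
    rw [Finset.sum_comm, he, sum_classes]
    refine Finset.sum_congr rfl fun C _ => ?_
    rw [sum_conj_eq (rep C) (fun y => res hM (b (rep C)) • MonoidAlgebra.of (AlgInt ⧸ M) G y),
      Finset.smul_sum]
    refine Finset.sum_congr rfl fun g hg => ?_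
    obtain ⟨c, hc⟩ := isConj_iff.1 (Finset.mem_filter.1 hg).2
    rw [← Nat.cast_smul_eq_nsmul (AlgInt ⧸ M), smul_smul, ← hc, hclass, hεb (rep C),
      res_mul hM (memRing_natCast hM _) (hbint _), res_natCast]
  · intro h0
    have hz : ∀ g, res hM (ε g) = 0 := fun g => by rw [← hcoeff, h0]; simp
    have h1 := congrArg (res hM) hone
    rw [res_one, res_sum hM (fun C _ => (loc hM).mul_mem (hεint _) (memRing_clv hM _ _))] at h1
    rw [Finset.sum_eq_zero (fun C _ => by
      rw [res_mul hM (hεint _) (memRing_clv hM _ _), hz, zero_mul])] at h1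
    exact zero_ne_one h1

/-- At most one character of defect zero. -/
theorem defZero_unique {F : Type*} [Field F] [Fintype F] [Fact p.Prime] (Z : Datum G F p)
    (χ ψ : IrrCharacter G) (hχ : IsDefZero p χ) (hψ : IsDefZero p ψ) : χ = ψ := by
  obtain ⟨M, hM⟩ := exists_pModular (Fact.out : p.Prime)
  haveI := hM.2.1
  letI := Ideal.Quotient.field M
  haveI := res_charP hM
  haveI : IsAlgClosed (AlgInt ⧸ M) := res_isAlgClosed hM
  obtain ⟨e, he, he0, hec⟩ := exists_traceIdem hM χ hχ
  obtain ⟨f, hf, hf0, hfc⟩ := exists_traceIdem hM ψ hψ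
  by_contra hne
  refine orth_absurd Z he hf ?_ he0 hf0
  have hexp : ∀ a : MonoidAlgebra (AlgInt ⧸ M) G, a = ∑ g, a.coeff g • g' (AlgInt ⧸ M) g := by
    intro a
    apply MonoidAlgebra.ext
    ext g
    simp [g', MonoidAlgebra.of_apply, Finsupp.single_apply]
  rw [hexp e, hexp f, Finset.sum_mul_sum]
  simp only [smul_mul_smul_comm, g', ← map_mul, (hec _).1, (hfc _).1]
  rw [Finset.sum_congr rfl (fun a _ => Fintype.sum_equiv (Equiv.mulLeft a)
      (fun c => (res hM (DefectOne.idemC χ a) * res hM (DefectOne.idemC ψ c)) •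
        MonoidAlgebra.of (AlgInt ⧸ M) G (a * c))
      (fun c => (res hM (DefectOne.idemC χ a) * res hM (DefectOne.idemC ψ (a⁻¹ * c))) •
        MonoidAlgebra.of (AlgInt ⧸ M) G c)
      (fun c => by simp)), Finset.sum_comm]
  refine Finset.sum_eq_zero fun c _ => ?_
  rw [← Finset.sum_smul]
  have hconv := DefectOne.idemC_conv χ ψ c
  rw [if_neg hne] at hconv
  rw [Finset.sum_congr rfl (fun a _ => (res_mul hM (hec a).2 (hfc (a⁻¹ * c)).2).symm),
    ← res_sum hM (fun a _ => (loc hM).mul_mem (hec a).2 (hfc _).2), hconv, res_zero, zero_smul]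

end

end CfsgLib.DefectZeroBN
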