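import Cfsg.Agent.Lib.Blocks.GroupAlgebra
import Cfsg.Agent.Lib.Chev.SL2Hom

/-!
# Projective simple modules in the defining characteristic

For a finite group with a split BN-pair given by rank one data, two orthogonal idempotents which are
relative traces from the trivial subgroup cannot both be nonzero: there is at most one block of
defect zero.
-/

set_option linter.unusedSectionVars false
set_option linter.unusedVariables false
set_option linter.unusedSimpArgs false
set_option autoImplicit false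

namespace CfsgLib.DefectZeroBN

open MonoidAlgebra CfsgLib.Chev
open scoped Classical

/-- The diagonal matrices. -/
def dg {F : Type*} [Field F] (a : Fˣ) : Matrix.SpecialLinearGroup (Fin 2) F :=
  ⟨!![(a : F), 0; 0, ((a⁻¹ : Fˣ) : F)], by simp [Matrix.det_fin_two]⟩

/-- The rank one identities needed. -/
theorem rankOne_h {F : Type*} [Field F] {G : Type*} [Group G] (R : RankOne F G) (a : Fˣ) :
    R.hom (dg a) = R.h a := by
  show R.f (dg a) = _
  rw [R.f_of_zero (g := dg a) (by simp [dg]) a (by simp [dg])]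
  simp [dg, R.x_zero]

theorem rankOne_n {F : Type*} [Field F] {G : Type*} [Group G] (R : RankOne F G) :
    R.hom RankOne.w = R.n 1 := by
  rw [show (RankOne.w : Matrix.SpecialLinearGroup (Fin 2) F) =
      RankOne.u 1 * RankOne.l (-1) * RankOne.u 1 from Subtype.ext (by
        simp only [RankOne.val_mul]
        ext i j; fin_cases i <;> fin_cases j <;>
          simp [RankOne.u, RankOne.l, RankOne.w, Matrix.mul_apply, Fin.sum_univ_two]),
    map_mul, map_mul, R.hom_u, R.hom_l, R.n_def]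
  simp

/-- `x(t) n = y(1/t) h(-t) x(-1/t)`. -/
theorem rankOne_xn {F : Type*} [Field F] {G : Type*} [Group G] (R : RankOne F G) (t : Fˣ) :
    R.x t * R.n 1 = R.y ↑t⁻¹ * R.h (-t) * R.x (-(↑t⁻¹ : F)) := by
  rw [← R.hom_u, ← rankOne_n R, ← R.hom_l, ← rankOne_h R, ← R.hom_u, ← map_mul, ← map_mul, ← map_mul]
  congr 1
  apply Subtype.ext
  have ht : (t : F) ≠ 0 := t.ne_zero
  simp only [RankOne.val_mul]
  ext i j; fin_cases i <;> fin_cases j <;>
    simp [dg, RankOne.u, RankOne.l, RankOne.w, Matrix.mul_apply, Fin.sum_univ_two] <;> field_simp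

/-- `n x(s) = x(-1/s) h(-1/s) y(1/s)`. -/
theorem rankOne_nx {F : Type*} [Field F] {G : Type*} [Group G] (R : RankOne F G) (s : Fˣ) :
    R.n 1 * R.x s = R.x (-(↑s⁻¹ : F)) * R.h (-s⁻¹) * R.y ↑s⁻¹ := by
  rw [← R.hom_u, ← rankOne_n R, ← R.hom_l, ← rankOne_h R, ← R.hom_u, ← map_mul, ← map_mul, ← map_mul]
  congr 1
  apply Subtype.ext
  have hs : (s : F) ≠ 0 := s.ne_zero
  simp only [RankOne.val_mul]
  ext i j; fin_cases i <;> fin_cases j <;>
    simp [dg, RankOne.u, RankOne.l, RankOne.w, Matrix.mul_apply, Fin.sum_univ_two] <;> field_simp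

/-- `y(s) = x(1/s) h(-1/s) n x(1/s)`. -/
theorem rankOne_y {F : Type*} [Field F] {G : Type*} [Group G] (R : RankOne F G) (s : Fˣ) :
    R.y s = R.x ↑s⁻¹ * R.h (-s⁻¹) * R.n 1 * R.x ↑s⁻¹ := by
  rw [← R.hom_u, ← rankOne_n R, ← R.hom_l, ← rankOne_h R, ← map_mul, ← map_mul, ← map_mul]
  congr 1
  apply Subtype.ext
  have hs : (s : F) ≠ 0 := s.ne_zero
  simp only [RankOne.val_mul]
  ext i j; fin_cases i <;> fin_cases j <;>
    simp [dg, RankOne.u, RankOne.l, RankOne.w, Matrix.mul_apply, Fin.sum_univ_two] <;> field_simp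

/-- The data of a split BN-pair given by rank one subgroups. -/
structure Datum (G : Type*) [Group G] (F : Type*) [Field F] (p : ℕ) where
  ι : Type
  R : ι → RankOne F G
  U : Subgroup G
  V : Subgroup G
  Uc : ι → Subgroup G
  n0 : G
  hU : IsPGroup p U
  hV : IsPGroup p V
  hUV : U ⊓ V = ⊥
  hinj : ∀ i, Function.Injective (R i).x
  hx : ∀ i t, (R i).x t ∈ U
  hy : ∀ i t, (R i).y t ∈ V
  hgen : Subgroup.closure {g : G | ∃ i t, g = (R i).x t ∨ g = (R i).y t} = ⊤
  hcomm : ∀ i j a b, (R i).h a * (R j).h b = (R j).h b * (R i).h a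
  hnormU : ∀ i a, ∀ u, (u ∈ U ↔ (R i).h a * u * ((R i).h a)⁻¹ ∈ U)
  hnormV : ∀ i a, ∀ u, (u ∈ V ↔ (R i).h a * u * ((R i).h a)⁻¹ ∈ V)
  hlong : ∀ u, u ∈ U ↔ n0 * u * n0⁻¹ ∈ V
  hUc : ∀ i, Uc i ≤ U
  hsplit : ∀ i, ∀ u ∈ U, ∃ c ∈ Uc i, ∃ t, u = c * (R i).x t
  hUcn : ∀ i, ∀ c, (c ∈ Uc i ↔ (R i).n 1 * c * ((R i).n 1)⁻¹ ∈ Uc i)
  hVsplit : ∀ i, ∀ v ∈ V, ∃ w, ∃ s, v = w * (R i).y s ∧ ∀ t, (R i).x t * w * ((R i).x t)⁻¹ ∈ V
  hbig : ∀ g, (∃ z ∈ U, z ≠ 1 ∧ g⁻¹ * z * g ∈ U) ∨
    ∃ u ∈ U, ∃ h, (∀ u', u' ∈ U ↔ h * u' * h⁻¹ ∈ U) ∧ ∃ u' ∈ U, g = u * h * n0 * u'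

/-- A common eigenvector of commuting endomorphisms. -/
theorem exists_common_eigen {k : Type*} [Field k] [IsAlgClosed k] {A : Type*} [AddCommGroup A]
    [Module k A] [FiniteDimensional k A] {S : Type*} (T : S → A →ₗ[k] A)
    (hc : ∀ s s' a, T s (T s' a) = T s' (T s a)) :
    ∀ (m : ℕ) (W : Submodule k A), Module.finrank k W ≤ m → W ≠ ⊥ → (∀ s, ∀ a ∈ W, T s a ∈ W) →
      ∃ v ∈ W, v ≠ 0 ∧ ∀ s, ∃ μ : k, T s v = μ • v := by
  intro m
  induction m with
  | zero =>
    intro W hm hne _
    exact absurd (Submodule.finrank_eq_zero.mp (Nat.le_zero.mp hm)) hne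
  | succ m ih =>
    intro W hm hne hst
    haveI : Nontrivial W := Submodule.nontrivial_iff_ne_bot.mpr hne
    by_cases hall : ∀ s, ∃ μ : k, ∀ a ∈ W, T s a = μ • a
    · obtain ⟨v, hv, hv0⟩ := Submodule.exists_mem_ne_zero_of_ne_bot hne
      exact ⟨v, hv, hv0, fun s => (hall s).imp fun μ h => h v hv⟩
    push Not at hall
    obtain ⟨s, hs⟩ := hall
    obtain ⟨μ, hμ⟩ := Module.End.exists_eigenvalue ((T s).restrict (hst s))
    obtain ⟨a, ha⟩ := hμ.exists_hasEigenvector
    let W' : Submodule k A := W ⊓ LinearMap.ker (T s - μ • LinearMap.id)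
    have hmem : ∀ x, x ∈ W' ↔ x ∈ W ∧ T s x = μ • x := fun x => by
      simp [W', sub_eq_zero]
    have haW : (a : A) ∈ W' := (hmem _).2 ⟨a.2, congrArg Subtype.val ha.apply_eq_smul⟩
    have hlt : W' < W := by
      refine lt_of_le_of_ne inf_le_left fun e => ?_
      obtain ⟨b, hb, hb'⟩ := hs μ
      exact hb' ((hmem b).1 (e ▸ hb)).2
    obtain ⟨v, hv, hv0, hev⟩ := ih W' (by have := Submodule.finrank_lt_finrank_of_lt hlt; omega)
      ((Submodule.ne_bot_iff _).2 ⟨a, haW, fun h => ha.2 (Subtype.ext h)⟩) (fun s' x hx => by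
        obtain ⟨h1, h2⟩ := (hmem x).1 hx
        exact (hmem _).2 ⟨hst s' x h1, by rw [hc, h2, map_smul]⟩)
    exact ⟨v, inf_le_left (a := W) hv, hv0, hev⟩

section

variable {k : Type*} [Field k] {p : ℕ} [Fact p.Prime] [CharP k p]
variable {G : Type*} [Group G] [Fintype G]
variable {F : Type*} [Field F] [Fintype F]

local notation "KG" => MonoidAlgebra k G

/-- The element of the group algebra given by a group element. -/
noncomputable abbrev g' (k : Type*) [Field k] {G : Type*} [Group G] (g : G) : MonoidAlgebra k G :=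
  MonoidAlgebra.of k G g

/-- The sum of a subgroup. -/
noncomputable def sg (k : Type*) [Field k] {G : Type*} [Group G] [Fintype G] (K : Subgroup G) :
    MonoidAlgebra k G := ∑ u ∈ Finset.univ.filter (fun g => g ∈ K), MonoidAlgebra.of k G u

theorem sg_mul_left {K : Subgroup G} {u : G} (hu : u ∈ K) : g' k u * sg k K = sg k K := by
  classical
  unfold sg
  rw [Finset.mul_sum]
  refine Finset.sum_equiv (Equiv.mulLeft u) ?_ ?_
  · intro i; simp [K.mul_mem_cancel_left hu]
  · intro i _; simp [g', ← map_mul]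

theorem sg_mul_right {K : Subgroup G} {u : G} (hu : u ∈ K) : sg k K * g' k u = sg k K := by
  classical
  unfold sg
  rw [Finset.sum_mul]
  refine Finset.sum_equiv (Equiv.mulRight u) ?_ ?_
  · intro i; simp [K.mul_mem_cancel_right hu]
  · intro i _; simp [g', ← map_mul]

theorem sg_conj {K K' : Subgroup G} {h : G} (hh : ∀ u, u ∈ K ↔ h * u * h⁻¹ ∈ K') :
    g' k h * sg k K = sg k K' * g' k h := by
  classical
  unfold sg
  rw [Finset.sum_mul, Finset.mul_sum]
  refine Finset.sum_equiv (MulAut.conj h).toEquiv ?_ ?_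
  · intro i; simp [← hh i]
  · intro i _; simp [g', ← map_mul, MulAut.conj_apply, mul_assoc]

/-- A double coset whose point stabiliser in `U` is nontrivial is killed. -/
theorem sg_mul_g_mul_sg {U : Subgroup G} (hU : IsPGroup p U) {g z : G} (hz : z ∈ U) (hz1 : z ≠ 1)
    (hz' : g⁻¹ * z * g ∈ U) : sg k U * g' k g * sg k U = 0 := by
  classical
  set Z := Subgroup.zpowers z with hZ
  have hZU : Z ≤ U := by rwa [hZ, Subgroup.zpowers_le]
  haveI : Fintype Z := Fintype.ofFinite Z
  obtain ⟨S, hS, -⟩ := Z.exists_isComplement_right 1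
  haveI : Fintype S := Fintype.ofFinite S
  -- `U` is a union of right cosets of `Z`
  have hdec : sg k U = sg k Z * ∑ r ∈ Finset.univ.filter (fun r : S => (r : G) ∈ U), g' k (r : G) := by
    unfold sg
    rw [Finset.sum_mul_sum, ← Finset.sum_product']
    refine Finset.sum_bij' (fun u _ => (((hS.equiv u).1 : G), (hS.equiv u).2))
      (fun q _ => q.1 * (q.2 : G)) ?_ ?_ ?_ ?_ ?_
    · intro u hu
      simp only [Finset.mem_filter, Finset.mem_univ, true_and] at hu
      simp only [Finset.mem_product, Finset.mem_filter, Finset.mem_univ, true_and]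
      refine ⟨(hS.equiv u).1.2, ?_⟩
      have h2 := hS.equiv_fst_mul_equiv_snd u
      have h1 : ((hS.equiv u).1 : G) ∈ U := hZU (hS.equiv u).1.2
      rw [← h2] at hu
      exact (U.mul_mem_cancel_left h1).1 hu
    · intro q hq
      simp only [Finset.mem_product, Finset.mem_filter, Finset.mem_univ, true_and] at hq ⊢
      exact U.mul_mem (hZU hq.1) hq.2
    · intro u _
      exact hS.equiv_fst_mul_equiv_snd u
    · intro q hq
      simp only [Finset.mem_product, Finset.mem_filter, Finset.mem_univ, true_and] at hq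
      have h := hS.equiv.apply_symm_apply (⟨q.1, hq.1⟩, q.2)
      rw [Subgroup.IsComplement.equiv_symm_apply] at h
      simp only at h
      rw [h]
    · intro u _
      simp only [g', ← map_mul]
      rw [hS.equiv_fst_mul_equiv_snd u]
  have hright : ∀ u ∈ U, g' k u * sg k U = sg k U := fun u hu => sg_mul_left hu
  have hzero : ∀ w ∈ U, g' k w * sg k U = sg k U := hright
  -- move `Z` across `g`
  have hmove : sg k Z * g' k g * sg k U = (Nat.card Z : k) • (g' k g * sg k U) := by
    unfold sg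
    rw [Finset.sum_mul, Finset.sum_mul]
    have hterm : ∀ u ∈ Finset.univ.filter (fun a => a ∈ Z),
        MonoidAlgebra.of k G u * g' k g * sg k U = g' k g * sg k U := by
      intro u hu
      simp only [Finset.mem_filter, Finset.mem_univ, true_and] at hu
      obtain ⟨n, rfl⟩ := Subgroup.mem_zpowers_iff.1 hu
      have hc : g⁻¹ * z ^ n * g ∈ U := by
        have := U.zpow_mem hz' n
        have e : (g⁻¹ * z * g) ^ n = g⁻¹ * z ^ n * g := by
          have := conj_zpow (i := n) (a := g⁻¹) (b := z)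
          simpa using this
        rwa [e] at this
      have e2 : MonoidAlgebra.of k G (z ^ n) * g' k g = g' k g * g' k (g⁻¹ * z ^ n * g) := by
        simp only [g', ← map_mul]; congr 1; group
      rw [e2, mul_assoc, sg_mul_left hc]
    have e3 := Finset.sum_congr rfl hterm
    simp only [sg] at e3
    rw [e3, Finset.sum_const, ← Nat.cast_smul_eq_nsmul k]
    congr 2
    rw [Nat.card_eq_fintype_card, Fintype.card_subtype]
  have hpZ : p ∣ Nat.card Z := by
    obtain ⟨e, he⟩ := IsPGroup.iff_card.1 (hU.to_le hZU)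
    rcases e with _ | e
    · exfalso
      rw [pow_zero, Subgroup.card_eq_one, hZ, Subgroup.zpowers_eq_bot] at he
      exact hz1 he
    · exact ⟨p ^ e, by rw [he, pow_succ']⟩
  have hZ0 : sg k Z * g' k g * sg k U = 0 := by
    rw [hmove, (CharP.cast_eq_zero_iff k p _).2 hpZ, zero_smul]
  -- `U` is also a union of left cosets
  have hdec' : ∃ X : KG, sg k U = X * sg k Z := by
    obtain ⟨S', hS', -⟩ := Z.exists_isComplement_left 1
    haveI : Fintype S' := Fintype.ofFinite S'
    refine ⟨∑ r ∈ Finset.univ.filter (fun r : S' => (r : G) ∈ U), g' k (r : G), ?_⟩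
    unfold sg
    rw [Finset.sum_mul_sum, ← Finset.sum_product']
    refine Finset.sum_bij' (fun u _ => ((hS'.equiv u).1, ((hS'.equiv u).2 : G)))
      (fun q _ => (q.1 : G) * q.2) ?_ ?_ ?_ ?_ ?_
    · intro u hu
      simp only [Finset.mem_filter, Finset.mem_univ, true_and] at hu
      simp only [Finset.mem_product, Finset.mem_filter, Finset.mem_univ, true_and]
      refine ⟨?_, (hS'.equiv u).2.2⟩
      have h2 := hS'.equiv_fst_mul_equiv_snd u
      have h1 : ((hS'.equiv u).2 : G) ∈ U := hZU (hS'.equiv u).2.2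
      rw [← h2] at hu
      exact (U.mul_mem_cancel_right h1).1 hu
    · intro q hq
      simp only [Finset.mem_product, Finset.mem_filter, Finset.mem_univ, true_and] at hq ⊢
      exact U.mul_mem hq.1 (hZU hq.2)
    · intro u _
      exact hS'.equiv_fst_mul_equiv_snd u
    · intro q hq
      simp only [Finset.mem_product, Finset.mem_filter, Finset.mem_univ, true_and] at hq
      have h := hS'.equiv.apply_symm_apply (q.1, ⟨q.2, hq.2⟩)
      rw [Subgroup.IsComplement.equiv_symm_apply] at h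
      simp only at h
      rw [h]
    · intro u _
      simp only [g', ← map_mul]
      rw [hS'.equiv_fst_mul_equiv_snd u]
  obtain ⟨X, hX⟩ := hdec'
  conv_lhs => arg 1; arg 1; rw [hX]
  rw [mul_assoc, mul_assoc, ← mul_assoc (sg k Z), hZ0, mul_zero]

/-- An idempotent which is a relative trace from the trivial subgroup. -/
def IsTrace (e : KG) : Prop :=
  (∀ g, g' k g * e = e * g' k g) ∧ e * e = e ∧ ∃ a : KG, e = ∑ g, g' k g * a * g' k g⁻¹

theorem central_all {e : KG} (he : ∀ g, g' k g * e = e * g' k g) (b : KG) : b * e = e * b := by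
  induction b using MonoidAlgebra.induction_on with
  | of g => exact he g
  | add x y hx hy => rw [add_mul, mul_add, hx, hy]
  | smul c x hx => rw [smul_mul_assoc, mul_smul_comm, hx]

/-- Fixed points of a subgroup in the ideal are traces. -/
theorem exists_trace {e : KG} (he : IsTrace e) (K : Subgroup G) {w : KG}
    (hew : e * w = w) (hfix : ∀ u ∈ K, g' k u * w = w) :
    ∃ a : KG, w = sg k K * (a * w) := by
  classical
  obtain ⟨hce, -, a, ha⟩ := he
  obtain ⟨S, hS, -⟩ := K.exists_isComplement_right 1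
  haveI : Fintype S := Fintype.ofFinite S
  refine ⟨∑ r : S, g' k (r : G) * a * g' k (r : G)⁻¹, ?_⟩
  have hsum : e = ∑ q : K × S, g' k ((q.1 : G) * (q.2 : G)) * a * g' k ((q.1 : G) * (q.2 : G))⁻¹ := by
    rw [ha]
    refine (Fintype.sum_equiv hS.equiv.symm _ _ fun q => ?_).symm
    rw [Subgroup.IsComplement.equiv_symm_apply]
  conv_lhs => rw [← hew, hsum, Fintype.sum_prod_type, Finset.sum_mul]
  rw [← mul_assoc, sg,
    Finset.sum_subtype (p := fun g => g ∈ K) (Finset.univ.filter (fun g => g ∈ K)) (by simp),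
    Finset.sum_mul_sum]
  simp only [Finset.sum_mul]
  refine Finset.sum_congr rfl fun u _ => ?_
  refine Finset.sum_congr rfl fun r _ => ?_
  have hu : g' k (u : G)⁻¹ * w = w := hfix _ (K.inv_mem u.2)
  rw [mul_inv_rev]
  simp only [g', map_mul] at hu ⊢
  simp only [mul_assoc, hu]

variable (Z : Datum G F p)

/-- The eigen data of a generator. -/
structure Good (e : KG) (lam : Z.ι → Fˣ → k) (v : KG) : Prop where
  mem : e * v = v
  fix : ∀ u ∈ Z.U, g' k u * v = v
  eig : ∀ i a, g' k ((Z.R i).h a) * v = lam i a • v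
  hecke : ∀ i, (∑ t : F, g' k ((Z.R i).x t)) * g' k ((Z.R i).n 1) * v =
    (∑ s : Fˣ, lam i (-s⁻¹)) • v

/-- The span of the `V`-translates. -/
noncomputable def vspan (v : KG) : Submodule k KG :=
  Submodule.span k (Set.range fun u : Z.V => g' k (u : G) * v)

theorem mem_vspan {v : KG} {u : G} (hu : u ∈ Z.V) : g' k u * v ∈ vspan Z v :=
  Submodule.subset_span ⟨⟨u, hu⟩, rfl⟩

variable {Z}

theorem nv_eq {e : KG} {lam : Z.ι → Fˣ → k} {v : KG} (hv : Good Z e lam v) (i : Z.ι) :
    g' k ((Z.R i).n 1) * v = (∑ s : Fˣ, lam i (-s⁻¹)) • v -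
      ∑ t : Fˣ, lam i (-t) • (g' k ((Z.R i).y ↑t⁻¹) * v) := by
  classical
  have h := hv.hecke i
  rw [Finset.sum_mul, Finset.sum_mul] at h
  rw [Fintype.sum_eq_add_sum_compl (0 : F), (Z.R i).x_zero] at h
  rw [← h, eq_sub_iff_add_eq]
  congr 1
  · simp [g']
  · symm
    refine Finset.sum_bij' (fun (a : F) ha => Units.mk0 a (by simpa using ha))
      (fun (t : Fˣ) _ => (t : F)) (fun _ _ => Finset.mem_univ _) (fun t _ => by simp) (fun _ _ => rfl)
      (fun t _ => Units.ext rfl) (fun a ha => ?_)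
    set t : Fˣ := Units.mk0 a (by simpa using ha)
    rw [show a = (t : F) from rfl]
    simp only [g', ← map_mul]
    rw [rankOne_xn, map_mul, map_mul, mul_assoc, hv.fix _ (Z.hx i _), mul_assoc, hv.eig,
      mul_smul_comm]

theorem nv_mem {e : KG} {lam : Z.ι → Fˣ → k} {v : KG} (hv : Good Z e lam v) (i : Z.ι) :
    g' k ((Z.R i).n 1) * v ∈ vspan Z v := by
  rw [nv_eq hv i]
  refine Submodule.sub_mem _ (Submodule.smul_mem _ _ ?_)
    (Submodule.sum_mem _ fun t _ => Submodule.smul_mem _ _ (mem_vspan Z (Z.hy i _)))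
  have h1 := mem_vspan Z (v := v) Z.V.one_mem
  rwa [g', map_one, one_mul] at h1

theorem vspan_stable {e : KG} {lam : Z.ι → Fˣ → k} {v : KG} (hv : Good Z e lam v) :
    ∀ (g : G), ∀ w ∈ vspan Z v, g' k g * w ∈ vspan Z v := by
  have hVst : ∀ u ∈ Z.V, ∀ w ∈ vspan Z v, g' k u * w ∈ vspan Z v := by
    intro u hu w hw
    induction hw using Submodule.span_induction with
    | mem x hx =>
      obtain ⟨u', rfl⟩ := hx
      show g' k u * (g' k (u' : G) * v) ∈ _
      rw [← mul_assoc, g', g', ← map_mul]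
      exact mem_vspan Z (Z.V.mul_mem hu u'.2)
    | zero => simp
    | add x y _ _ hx hy => rw [mul_add]; exact Submodule.add_mem _ hx hy
    | smul c x _ hx => rw [mul_smul_comm]; exact Submodule.smul_mem _ _ hx
  have hxy : ∀ i (t s : F), g' k ((Z.R i).x t) * (g' k ((Z.R i).y s) * v) ∈ vspan Z v := by
    intro i t s
    have hvm : v ∈ vspan Z v := by
      have h1 := mem_vspan Z (v := v) Z.V.one_mem
      rwa [g', map_one, one_mul] at h1
    by_cases hs : s = 0
    · subst hs
      rw [← (Z.R i).hom_l, show (RankOne.l (0 : F)) = 1 from Subtype.ext (by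
        simp [RankOne.l, Matrix.one_fin_two]), map_one]
      simp only [g', map_one, one_mul]
      rw [hv.fix _ (Z.hx i t)]; exact hvm
    set u : Fˣ := Units.mk0 s hs
    have e1 : g' k ((Z.R i).y s) * v =
        lam i (-u) • (g' k ((Z.R i).x ↑u⁻¹) * (g' k ((Z.R i).n 1) * v)) := by
      have hy := rankOne_y (Z.R i) u
      rw [show s = (u : F) from rfl, hy]
      have hhn : (Z.R i).h (-u⁻¹) * (Z.R i).n 1 = (Z.R i).n 1 * (Z.R i).h (-u) := by
        rw [(Z.R i).n_h]; simp
      rw [mul_assoc ((Z.R i).x ↑u⁻¹), hhn]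
      simp only [g', map_mul, mul_assoc]
      rw [hv.fix _ (Z.hx i _), hv.eig, mul_smul_comm, mul_smul_comm]
    rw [e1, mul_smul_comm, ← mul_assoc, g', g', ← map_mul, ← (Z.R i).x_add]
    refine Submodule.smul_mem _ _ ?_
    by_cases ht : t + ↑u⁻¹ = 0
    · rw [ht, (Z.R i).x_zero, map_one, one_mul]; exact nv_mem hv i
    · rw [← mul_assoc, g', ← map_mul, show t + ↑u⁻¹ = ((Units.mk0 _ ht : Fˣ) : F) from rfl,
        rankOne_xn, map_mul, map_mul, mul_assoc, hv.fix _ (Z.hx i _), mul_assoc, hv.eig, mul_smul_comm]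
      exact Submodule.smul_mem _ _ (mem_vspan Z (Z.hy i _))
  have hgen : ∀ i t, ∀ w ∈ vspan Z v, g' k ((Z.R i).x t) * w ∈ vspan Z v := by
    intro i t w hw
    induction hw using Submodule.span_induction with
    | mem x hx =>
      obtain ⟨u, rfl⟩ := hx
      obtain ⟨w, s, hw, hconj⟩ := Z.hVsplit i _ u.2
      have e : g' k ((Z.R i).x t) * (g' k (u : G) * v) =
          g' k ((Z.R i).x t * w * ((Z.R i).x t)⁻¹) * (g' k ((Z.R i).x t) * (g' k ((Z.R i).y s) * v)) := by
        simp only [g', ← mul_assoc, ← map_mul]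
        rw [hw]; congr 2; group
      show g' k ((Z.R i).x t) * (g' k (u : G) * v) ∈ _
      rw [e]
      exact hVst _ (hconj t) _ (hxy i t s)
    | zero => simp
    | add x y _ _ hx hy => rw [mul_add]; exact Submodule.add_mem _ hx hy
    | smul c x _ hx => rw [mul_smul_comm]; exact Submodule.smul_mem _ _ hx
  let St : Subgroup G :=
    { carrier := {g | (∀ w ∈ vspan Z v, g' k g * w ∈ vspan Z v) ∧
        ∀ w ∈ vspan Z v, g' k g⁻¹ * w ∈ vspan Z v}
      one_mem' := by simp only [Set.mem_setOf_eq, inv_one, g', map_one, one_mul]; exact ⟨fun w h => h, fun w h => h⟩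
      mul_mem' := by
        rintro a b ⟨ha, ha'⟩ ⟨hb, hb'⟩
        refine ⟨fun w hw => ?_, fun w hw => ?_⟩
        · rw [g', map_mul, mul_assoc]; exact ha _ (hb _ hw)
        · rw [mul_inv_rev, g', map_mul, mul_assoc]; exact hb' _ (ha' _ hw)
      inv_mem' := by rintro a ⟨ha, ha'⟩; exact ⟨ha', by simpa using ha⟩ }
  intro g
  have hle : Subgroup.closure {g : G | ∃ i t, g = (Z.R i).x t ∨ g = (Z.R i).y t} ≤ St := by
    rw [Subgroup.closure_le]
    rintro _ ⟨i, t, rfl | rfl⟩
    · exact ⟨hgen i t, by rw [← (Z.R i).x_neg]; exact hgen i _⟩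
    · exact ⟨hVst _ (Z.hy i t), hVst _ (Z.V.inv_mem (Z.hy i t))⟩
  rw [Z.hgen] at hle
  exact (hle (Subgroup.mem_top g)).1

theorem vspan_sub {e : KG} (he : ∀ g, g' k g * e = e * g' k g) {v : KG} (hv : e * v = v) :
    ∀ w ∈ vspan Z v, e * w = w := by
  intro w hw
  induction hw using Submodule.span_induction with
  | mem x hx =>
    obtain ⟨u, rfl⟩ := hx
    show e * (g' k (u : G) * v) = _
    rw [← mul_assoc, ← he, mul_assoc, hv]
  | zero => simp
  | add x y _ _ hx hy => rw [mul_add, hx, hy]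
  | smul c x _ hx => rw [mul_smul_comm, hx]

theorem left_stable {v : KG} {W : Submodule k KG} (hW : ∀ (g : G), ∀ w ∈ W, g' k g * w ∈ W)
    (a : KG) : ∀ w ∈ W, a * w ∈ W := by
  induction a using MonoidAlgebra.induction_on with
  | of g => exact hW g
  | add x y hx hy => intro w hw; rw [add_mul]; exact W.add_mem (hx w hw) (hy w hw)
  | smul c x hx => intro w hw; rw [smul_mul_assoc]; exact W.smul_mem _ (hx w hw)

/-- The regular representation of a subgroup on the group algebra. -/
noncomputable def lrep (K : Subgroup G) : K →* (KG →ₗ[k] KG) where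
  toFun u := LinearMap.mulLeft k (g' k (u : G))
  map_one' := by
    apply LinearMap.ext
    intro x
    show g' k ((1 : K) : G) * x = x
    rw [OneMemClass.coe_one, g', map_one, one_mul]
  map_mul' a b := by
    apply LinearMap.ext
    intro x
    show g' k ((a * b : K) : G) * x = g' k (a : G) * (g' k (b : G) * x)
    rw [Subgroup.coe_mul, g', map_mul, mul_assoc]

theorem sv_ne_zero {e : KG} (he : IsTrace e) {lam : Z.ι → Fˣ → k} {v : KG} (hv : Good Z e lam v)
    (hv0 : v ≠ 0) : sg k Z.V * v ≠ 0 := by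
  intro h0
  have hvm : v ∈ vspan Z v := by
    have h1 := mem_vspan Z (v := v) Z.V.one_mem
    rwa [g', map_one, one_mul] at h1
  obtain ⟨w, hw, hw0, hfix⟩ := CfsgLib.Blocks.exists_fixed_vector Z.hV (lrep (k := k) Z.V) hv0
    (vspan Z v) hvm (fun u x hx => vspan_stable hv (u : G) x hx)
  obtain ⟨a, ha⟩ := exists_trace he Z.V (vspan_sub he.1 hv.mem w hw) (fun u hu => hfix ⟨u, hu⟩)
  have haw : a * w ∈ vspan Z v := left_stable (v := v) (vspan_stable hv) a w hw
  have hz : ∀ x ∈ vspan Z v, sg k Z.V * x = 0 := by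
    intro x hx
    induction hx using Submodule.span_induction with
    | mem y hy =>
      obtain ⟨u, rfl⟩ := hy
      show sg k Z.V * (g' k (u : G) * v) = 0
      rw [← mul_assoc, sg_mul_right u.2, h0]
    | zero => simp
    | add x y _ _ hx hy => rw [mul_add, hx, hy, add_zero]
    | smul c x _ hx => rw [mul_smul_comm, hx, smul_zero]
  exact hw0 (by rw [ha, hz _ haw])

theorem coeff_zero {e : KG} (he : IsTrace e) {lam : Z.ι → Fˣ → k} {v : KG} (hv : Good Z e lam v)
    (hv0 : v ≠ 0) {f : Z.V → k} (hf : ∑ u, f u • (g' k (u : G) * v) = 0) : f = 0 := by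
  classical
  let L : (Z.V → k) →ₗ[k] KG :=
    { toFun := fun f => ∑ u, f u • (g' k (u : G) * v)
      map_add' := fun a b => by simp [add_smul, Finset.sum_add_distrib]
      map_smul' := fun c a => by simp [Finset.smul_sum, mul_smul] }
  let T : Z.V →* ((Z.V → k) →ₗ[k] (Z.V → k)) :=
    { toFun := fun w => LinearMap.funLeft k k (fun u => w⁻¹ * u)
      map_one' := by ext; simp [LinearMap.funLeft]
      map_mul' := fun a b => by
        apply LinearMap.ext; intro x; funext u
        simp [LinearMap.funLeft, mul_assoc] }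
  have hL : ∀ w f, L (T w f) = g' k (w : G) * L f := by
    intro w f
    show ∑ u, f (w⁻¹ * u) • (g' k (u : G) * v) = g' k (w : G) * ∑ u, f u • (g' k (u : G) * v)
    rw [Finset.mul_sum]
    refine Fintype.sum_equiv (Equiv.mulLeft w⁻¹) _ _ fun u => ?_
    rw [mul_smul_comm, ← mul_assoc, g', g', ← map_mul]
    congr 3
    simp
  by_contra hne
  obtain ⟨c, hc, hc0, hfix⟩ := CfsgLib.Blocks.exists_fixed_vector Z.hV T hne (LinearMap.ker L) hf
    (fun w x hx => by rw [LinearMap.mem_ker] at hx ⊢; rw [hL, hx, mul_zero])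
  have hconst : ∀ u, c u = c 1 := fun u => by
    have := congr_fun (hfix u) u
    simpa [T, LinearMap.funLeft] using this.symm
  have h1 : c 1 ≠ 0 := fun h => hc0 (funext fun u => by rw [hconst, h]; rfl)
  apply sv_ne_zero he hv hv0
  have h2 : ∑ u, c u • (g' k (u : G) * v) = 0 := hc
  simp only [hconst] at h2
  rw [← Finset.smul_sum, smul_eq_zero] at h2
  have h3 := h2.resolve_left h1
  rw [← Finset.sum_mul] at h3
  rw [sg, Finset.sum_subtype (p := fun g => g ∈ Z.V) (Finset.univ.filter (fun g => g ∈ Z.V)) (by simp)]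
  exact h3

theorem lam_one {e : KG} (he : IsTrace e) {lam : Z.ι → Fˣ → k} {v : KG} (hv : Good Z e lam v)
    (hv0 : v ≠ 0) (i : Z.ι) (a : Fˣ) : lam i a = 1 := by
  classical
  have hl1 : lam i 1 = 1 := by
    have h := hv.eig i 1
    rw [(Z.R i).h_one, g', map_one, one_mul] at h
    by_contra hne
    have h' : (lam i 1 - 1) • v = 0 := by rw [sub_smul, one_smul, ← h, sub_self]
    exact hv0 ((smul_eq_zero.1 h').resolve_left (sub_ne_zero.2 hne))
  set c : k := ∑ s : Fˣ, lam i (-s⁻¹) with hc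
  -- the fundamental vector as a combination of translates
  let y' : F → Z.V := fun t => ⟨(Z.R i).y t, Z.hy i t⟩
  have hyinj : Function.Injective y' := by
    intro a b hab
    have h : (Z.R i).y a = (Z.R i).y b := congrArg Subtype.val hab
    have h2 := (Z.R i).n_x (-a)
    have h3 := (Z.R i).n_x (-b)
    rw [neg_neg] at h2 h3
    rw [h, ← h3] at h2
    exact neg_inj.1 (Z.hinj i (mul_left_cancel h2))
  have hexp := nv_eq hv i
  let f : Z.V → k := fun u =>
    (if u = y' 0 then c else 0) - ∑ t : Fˣ, if u = y' ↑t⁻¹ then lam i (-t) else 0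
  have hf : g' k ((Z.R i).n 1) * v = ∑ u, f u • (g' k (u : G) * v) := by
    rw [hexp]
    simp only [f, sub_smul, Finset.sum_sub_distrib, Finset.sum_smul, ite_smul, zero_smul]
    rw [Finset.sum_comm]
    simp only [Finset.sum_ite_eq', Finset.mem_univ, if_true, y']
    rw [show (Z.R i).y 0 = 1 by
      rw [← (Z.R i).hom_l, show (RankOne.l (0 : F)) = 1 from Subtype.ext (by
        simp [RankOne.l, Matrix.one_fin_two]), map_one]]
    simp only [g', map_one, one_mul, hc, Finset.sum_smul]
  have hinv : ∀ b : F, ∀ u, f ((y' b)⁻¹ * u) = f u := by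
    intro b
    have h1 : g' k ((Z.R i).y b) * (g' k ((Z.R i).n 1) * v) = g' k ((Z.R i).n 1) * v := by
      have h := (Z.R i).n_x (-b)
      rw [neg_neg] at h
      rw [← mul_assoc, g', g', ← map_mul, ← h, map_mul, mul_assoc, hv.fix _ (Z.hx i _)]
    rw [hf, Finset.mul_sum] at h1
    have h2 : ∑ u, f ((y' b)⁻¹ * u) • (g' k (u : G) * v) = ∑ u, f u • (g' k (u : G) * v) := by
      rw [← h1]
      refine Fintype.sum_equiv (Equiv.mulLeft (y' b)⁻¹) _ _ fun u => ?_
      rw [mul_smul_comm, ← mul_assoc, g', g', ← map_mul]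
      congr 3
      simp [y']
    have h3 := coeff_zero he hv hv0 (f := fun u => f ((y' b)⁻¹ * u) - f u)
      (by simp only [sub_smul, Finset.sum_sub_distrib]; rw [h2, sub_self])
    exact fun u => sub_eq_zero.1 (congr_fun h3 u)
  have hkey : ∀ t : Fˣ, -lam i (-t) = c := by
    intro t
    have h := hinv (↑t⁻¹) (y' ↑t⁻¹)
    rw [inv_mul_cancel] at h
    have hone : (1 : Z.V) = y' 0 := Subtype.ext (by
      show (1 : G) = (Z.R i).y 0
      rw [← (Z.R i).hom_l, show (RankOne.l (0 : F)) = 1 from Subtype.ext (by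
        simp [RankOne.l, Matrix.one_fin_two]), map_one])
    rw [hone] at h
    simp only [f, hyinj.eq_iff, if_true] at h
    rw [Finset.sum_eq_zero (fun s _ => if_neg (fun e => (Units.ne_zero s⁻¹) e.symm)), sub_zero,
      if_neg (Units.ne_zero t⁻¹),
      Finset.sum_eq_single t (fun s _ hs => if_neg (fun e => hs (inv_injective (Units.ext e.symm))))
        (by simp), if_pos rfl, zero_sub] at h
    exact h.symm
  have h1 := hkey (-1)
  rw [neg_neg, hl1] at h1
  have h2 := hkey (-a)
  rw [neg_neg, ← h1, neg_inj] at h2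
  exact h2

/-- Existence of a generator. -/
theorem exists_good [IsAlgClosed k] (Z : Datum G F p) {e : KG} (he : IsTrace e) (hne : e ≠ 0) :
    ∃ lam, ∃ v, v ≠ 0 ∧ Good Z e lam v := by
  classical
  let I : Submodule k KG := LinearMap.range (LinearMap.mulLeft k e)
  have hI : ∀ x, x ∈ I ↔ e * x = x := fun x =>
    ⟨by rintro ⟨y, rfl⟩; simp [← mul_assoc, he.2.1], fun h => ⟨x, h⟩⟩
  obtain ⟨w, hw, hw0, hwfix⟩ := CfsgLib.Blocks.exists_fixed_vector Z.hU (lrep (k := k) Z.U) hne I
    ((hI e).2 he.2.1) (fun u x hx => (hI _).2 (by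
      show e * (g' k (u : G) * x) = g' k (u : G) * x
      rw [← mul_assoc, ← he.1, mul_assoc, (hI x).1 hx]))
  let Φ : KG →ₗ[k] KG := LinearMap.mulLeft k (sg k Z.U * g' k Z.n0 * sg k Z.U)
  let M : Submodule k KG := I.map Φ
  have hMne : M ≠ ⊥ := by
    intro hM
    have hM0 : ∀ y, e * y = y → sg k Z.U * g' k Z.n0 * sg k Z.U * y = 0 := fun y hy => by
      have : Φ y ∈ M := ⟨y, (hI y).2 hy, rfl⟩
      rw [hM, Submodule.mem_bot] at this
      exact this
    obtain ⟨a, ha⟩ := exists_trace he Z.U ((hI w).1 hw) (fun u hu => hwfix ⟨u, hu⟩)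
    have hall : ∀ (b : KG) y, e * y = y → sg k Z.U * b * sg k Z.U * y = 0 := by
      intro b
      induction b using MonoidAlgebra.induction_on with
      | of g =>
        intro y hy
        rcases Z.hbig g with ⟨z, hz, hz1, hz'⟩ | ⟨u, hu, h, hh, u', hu', rfl⟩
        · rw [show MonoidAlgebra.of k G g = g' k g from rfl, sg_mul_g_mul_sg Z.hU hz hz1 hz', zero_mul]
        · rw [show MonoidAlgebra.of k G (u * h * Z.n0 * u') =
              g' k u * g' k h * g' k Z.n0 * g' k u' by simp [g', map_mul]]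
          rw [← mul_assoc, ← mul_assoc, ← mul_assoc, sg_mul_right hu, ← sg_conj hh,
            mul_assoc _ (g' k u'), sg_mul_left hu', mul_assoc (g' k h), mul_assoc (g' k h),
            mul_assoc (g' k h), hM0 y hy, mul_zero]
      | add x z hx hz => intro y hy; rw [mul_add, add_mul, add_mul, hx y hy, hz y hy, add_zero]
      | smul c x hx => intro y hy; rw [mul_smul_comm, smul_mul_assoc, smul_mul_assoc, hx y hy, smul_zero]
    have hwy : w = sg k Z.U * a * sg k Z.U * (a * w) := by
      conv_lhs => rw [ha]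
      conv_lhs => arg 2; arg 2; rw [ha]
      simp only [mul_assoc]
    have hy : e * (a * w) = a * w := by rw [← mul_assoc, ← central_all he.1, mul_assoc, (hI w).1 hw]
    exact hw0 (by rw [hwy, hall a _ hy])
  have hn0h : ∀ i b, ∀ u, (u ∈ Z.U ↔
      (Z.n0⁻¹ * (Z.R i).h b * Z.n0) * u * (Z.n0⁻¹ * (Z.R i).h b * Z.n0)⁻¹ ∈ Z.U) := by
    intro i b u
    rw [Z.hlong, Z.hlong ((Z.n0⁻¹ * (Z.R i).h b * Z.n0) * u * (Z.n0⁻¹ * (Z.R i).h b * Z.n0)⁻¹),
      Z.hnormV i b]
    simp only [mul_inv_rev, inv_inv, mul_assoc, mul_inv_cancel_left, mul_inv_cancel, mul_one]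
  let S := Z.ι × Fˣ
  let T : S → KG →ₗ[k] KG := fun s => LinearMap.mulLeft k (g' k ((Z.R s.1).h s.2))
  obtain ⟨v, hvM, hv0, hev⟩ := exists_common_eigen T (fun s s' x => by
      show g' k _ * (g' k _ * x) = g' k _ * (g' k _ * x)
      rw [← mul_assoc, ← mul_assoc, g', g', ← map_mul, ← map_mul, Z.hcomm])
    (Module.finrank k M) M le_rfl hMne (fun s x hx => by
      obtain ⟨y, hy, rfl⟩ := hx
      refine ⟨g' k (Z.n0⁻¹ * (Z.R s.1).h s.2 * Z.n0) * y, ?_, ?_⟩
      · refine (hI _).2 ?_
        rw [← mul_assoc, ← he.1, mul_assoc, (hI y).1 hy]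
      · show sg k Z.U * g' k Z.n0 * sg k Z.U * (_ * y) = g' k _ * (sg k Z.U * g' k Z.n0 * sg k Z.U * y)
        simp only [← mul_assoc]
        congr 1
        rw [sg_conj (Z.hnormU s.1 s.2), mul_assoc _ (sg k Z.U) (g' k _), ← sg_conj (hn0h s.1 s.2)]
        simp only [g', map_mul, mul_assoc]
        congr 1
        simp only [← mul_assoc]
        congr 1
        rw [← map_mul, ← map_mul, ← map_mul, ← map_mul]
        congr 1
        group)
  choose μ hμ using hev
  refine ⟨fun i a => μ (i, a), v, hv0, ?_, ?_, fun i a => hμ (i, a), ?_⟩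
  all_goals obtain ⟨y, hy, rfl⟩ := hvM
  · show e * (sg k Z.U * g' k Z.n0 * sg k Z.U * y) = sg k Z.U * g' k Z.n0 * sg k Z.U * y
    rw [← mul_assoc, ← central_all he.1, mul_assoc, (hI y).1 hy]
  · intro u hu
    show g' k u * (sg k Z.U * g' k Z.n0 * sg k Z.U * y) = sg k Z.U * g' k Z.n0 * sg k Z.U * y
    simp only [← mul_assoc]
    rw [sg_mul_left hu]
  · intro i
    set R := Z.R i
    have hinjx : ∀ c ∈ Z.Uc i, ∀ c' ∈ Z.Uc i, ∀ t t', c * R.x t = c' * R.x t' → t = t' := by
      intro c hc c' hc' t t' h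
      by_contra hne
      have hxd : R.x (t - t') ∈ Z.Uc i := by
        rw [sub_eq_add_neg, R.x_add, R.x_neg]
        have : R.x t = c⁻¹ * c' * R.x t' := by rw [mul_assoc, ← h, inv_mul_cancel_left]
        rw [this, mul_inv_cancel_right]
        exact (Z.Uc i).mul_mem ((Z.Uc i).inv_mem hc) hc'
      have h1 := (Z.hUcn i _).1 hxd
      rw [R.n_x, mul_inv_cancel_right] at h1
      have h2 : R.y (-(t - t')) ∈ Z.U ⊓ Z.V := ⟨Z.hUc i h1, Z.hy i _⟩
      rw [Z.hUV, Subgroup.mem_bot] at h2
      have h3 : R.x (t - t') = 1 := by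
        have := R.n_x (t - t')
        rwa [h2, one_mul, mul_eq_left] at this
      exact hne (sub_eq_zero.1 (Z.hinj i (h3.trans R.x_zero.symm)))
    have hdec : sg k Z.U = sg k (Z.Uc i) * ∑ t : F, g' k (R.x t) := by
      unfold sg
      rw [Finset.sum_mul_sum, ← Finset.sum_product']
      refine (Finset.sum_bij (fun q _ => q.1 * R.x q.2) ?_ ?_ ?_ ?_).symm
      · intro q hq
        simp only [Finset.mem_product, Finset.mem_filter, Finset.mem_univ, true_and, and_true] at hq ⊢
        exact Z.U.mul_mem (Z.hUc i hq) (Z.hx i _)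
      · intro a ha b hb h
        simp only [Finset.mem_product, Finset.mem_filter, Finset.mem_univ, true_and, and_true] at ha hb
        have ht := hinjx _ ha _ hb _ _ h
        rw [ht] at h
        exact Prod.ext (mul_right_cancel h) ht
      · intro u hu
        simp only [Finset.mem_filter, Finset.mem_univ, true_and] at hu
        obtain ⟨c, hc, t, rfl⟩ := Z.hsplit i u hu
        exact ⟨(c, t), by simp [hc], rfl⟩
      · intro q _
        simp [g', map_mul]
    have hdec' : sg k Z.U = (∑ t : F, g' k (R.x t)) * sg k (Z.Uc i) := by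
      unfold sg
      rw [Finset.sum_mul_sum, ← Finset.sum_product']
      refine (Finset.sum_bij (fun q _ => R.x q.1 * q.2) ?_ ?_ ?_ ?_).symm
      · intro q hq
        simp only [Finset.mem_product, Finset.mem_filter, Finset.mem_univ, true_and] at hq ⊢
        exact Z.U.mul_mem (Z.hx i _) (Z.hUc i hq)
      · intro a ha b hb h
        simp only [Finset.mem_product, Finset.mem_filter, Finset.mem_univ, true_and] at ha hb
        have h' := congrArg (·⁻¹) h
        simp only [mul_inv_rev, ← R.x_neg] at h'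
        have ht := neg_inj.1 (hinjx _ ((Z.Uc i).inv_mem ha) _ ((Z.Uc i).inv_mem hb) _ _ h')
        rw [ht] at h
        exact Prod.ext ht (mul_left_cancel h)
      · intro u hu
        simp only [Finset.mem_filter, Finset.mem_univ, true_and] at hu
        obtain ⟨c, hc, t, e⟩ := Z.hsplit i u⁻¹ (Z.U.inv_mem hu)
        refine ⟨(-t, c⁻¹), by simp [hc], ?_⟩
        show R.x (-t) * c⁻¹ = u
        rw [R.x_neg, ← mul_inv_rev, ← e, inv_inv]
      · intro q _
        simp [g', map_mul]
    show (∑ t : F, g' k (R.x t)) * g' k (R.n 1) * (sg k Z.U * g' k Z.n0 * sg k Z.U * y) =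
      (∑ s : Fˣ, μ (i, -s⁻¹)) • (sg k Z.U * g' k Z.n0 * sg k Z.U * y)
    set X := g' k Z.n0 * sg k Z.U * y with hX
    have e1 : sg k Z.U * g' k Z.n0 * sg k Z.U * y = sg k Z.U * X := by simp only [hX, mul_assoc]
    rw [e1]
    have e2 : (∑ t : F, g' k (R.x t)) * g' k (R.n 1) * (sg k Z.U * X) =
        ∑ s : F, sg k Z.U * (g' k (R.n 1 * R.x s) * X) := by
      conv_lhs => arg 2; arg 1; rw [hdec]
      have e3 : (∑ t : F, g' k (R.x t)) * g' k (R.n 1) *
          (sg k (Z.Uc i) * (∑ t : F, g' k (R.x t)) * X) =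
          sg k Z.U * (g' k (R.n 1) * ((∑ t : F, g' k (R.x t)) * X)) := by
        rw [hdec', mul_assoc, mul_assoc (sg k (Z.Uc i)),
          ← mul_assoc (g' k (R.n 1)) (sg k (Z.Uc i)), sg_conj (k := k) (Z.hUcn i), mul_assoc,
          mul_assoc]
      rw [e3]
      simp only [Finset.mul_sum, Finset.sum_mul, g', map_mul, mul_assoc]
    rw [e2, Fintype.sum_eq_add_sum_compl (0 : F), Finset.sum_smul]
    have hz : R.x (1 : F) ∈ Z.U := Z.hx i _
    have h0 : sg k Z.U * (g' k (R.n 1 * R.x 0) * X) = 0 := by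
      rw [R.x_zero, mul_one, hX, ← mul_assoc (g' k _) (_ * _), ← mul_assoc (g' k _), g', g', ← map_mul,
        ← mul_assoc, ← mul_assoc]
      rw [show MonoidAlgebra.of k G (R.n 1 * Z.n0) = g' k (R.n 1 * Z.n0) from rfl,
        sg_mul_g_mul_sg Z.hU hz ?_ ?_, zero_mul]
      · exact fun h => one_ne_zero (Z.hinj i (h.trans R.x_zero.symm))
      · have e3 : (R.n 1)⁻¹ * R.x 1 * R.n 1 = R.y (-1) := by
          have h := R.n_x (-1 : F)
          rw [neg_neg] at h
          have h' : R.x 1 * R.n 1 = R.n 1 * R.y (-1) := by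
            rw [← rankOne_n R, ← R.hom_u, ← R.hom_l, ← map_mul, ← map_mul]
            congr 1
            apply Subtype.ext
            simp only [RankOne.val_mul]
            ext a b; fin_cases a <;> fin_cases b <;>
              simp [RankOne.u, RankOne.l, RankOne.w, Matrix.mul_apply, Fin.sum_univ_two]
          rw [mul_assoc, h', inv_mul_cancel_left]
        have e4 : (R.n 1 * Z.n0)⁻¹ * R.x 1 * (R.n 1 * Z.n0) = Z.n0⁻¹ * R.y (-1) * Z.n0 := by
          rw [← e3]; group
        rw [e4, Z.hlong]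
        simpa [mul_assoc] using Z.hy i (-1)
    rw [h0, zero_add]
    refine Finset.sum_bij' (fun (a : F) ha => Units.mk0 a (by simpa using ha))
      (fun (t : Fˣ) _ => (t : F)) (fun _ _ => Finset.mem_univ _) (fun t _ => by simp) (fun _ _ => rfl)
      (fun t _ => Units.ext rfl) (fun a ha => ?_)
    set s : Fˣ := Units.mk0 a (by simpa using ha)
    rw [show a = (s : F) from rfl, rankOne_nx]
    have hyX : g' k (R.y ↑s⁻¹) * X = X := by
      rw [hX]
      have hu : Z.n0⁻¹ * R.y ↑s⁻¹ * Z.n0 ∈ Z.U := by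
        rw [Z.hlong]; simpa [mul_assoc] using Z.hy i _
      have e5 : g' k (R.y ↑s⁻¹) * g' k Z.n0 = g' k Z.n0 * g' k (Z.n0⁻¹ * R.y ↑s⁻¹ * Z.n0) := by
        simp only [g', ← map_mul]; congr 1; group
      rw [← mul_assoc, ← mul_assoc, e5, mul_assoc _ _ (sg k Z.U), sg_mul_left hu]
    simp only [g', map_mul, mul_assoc] at hyX ⊢
    rw [hyX, ← mul_assoc, sg_mul_right (Z.hx i _), ← mul_assoc, ← sg_conj (Z.hnormU i _),
      mul_assoc, ← e1]
    exact hμ (i, -s⁻¹)

/-- At most one trace idempotent. -/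
theorem orth_absurd [IsAlgClosed k] (Z : Datum G F p) {e f : KG} (he : IsTrace e) (hf : IsTrace f)
    (hef : e * f = 0) (he0 : e ≠ 0) (hf0 : f ≠ 0) : False := by
  classical
  obtain ⟨lam, v, hv0, hv⟩ := exists_good Z he he0
  obtain ⟨mu, w, hw0, hw⟩ := exists_good Z hf hf0
  have hl : ∀ i a, lam i a = mu i a := fun i a => by rw [lam_one he hv hv0, lam_one hf hw hw0]
  have hev : e * w = 0 := by rw [← hw.mem, ← mul_assoc, hef, zero_mul]
  have hfe : f * e = 0 := by rw [← central_all hf.1, hef]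
  have hfv : f * v = 0 := by rw [← hv.mem, ← mul_assoc, hfe, zero_mul]
  have hz : Good Z (e + f) lam (v + w) := by
    refine ⟨?_, fun u hu => ?_, fun i a => ?_, fun i => ?_⟩
    · rw [add_mul, mul_add, mul_add, hv.mem, hw.mem, hev, hfv]; abel
    · rw [mul_add, hv.fix u hu, hw.fix u hu]
    · rw [mul_add, hv.eig, hw.eig, hl, smul_add]
    · rw [mul_add, hv.hecke, hw.hecke, smul_add]
      congr 2
      exact Finset.sum_congr rfl fun s _ => (hl i _).symm
  have hst := vspan_stable hz
  have hzm : v + w ∈ vspan Z (v + w) := by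
    have h := mem_vspan Z (v := v + w) Z.V.one_mem
    rwa [g', map_one, one_mul] at h
  have hvin : v ∈ vspan Z (v + w) := by
    have := left_stable (v := v) hst e _ hzm
    rwa [mul_add, hv.mem, hev, add_zero] at this
  have hwin : w ∈ vspan Z (v + w) := by
    have := left_stable (v := v) hst f _ hzm
    rwa [mul_add, hw.mem, hfv, zero_add] at this
  let fam : Z.V ⊕ Z.V → KG := Sum.elim (fun u => g' k (u : G) * v) (fun u => g' k (u : G) * w)
  have hli : LinearIndependent k fam := by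
    rw [Fintype.linearIndependent_iff]
    intro c hc
    rw [Fintype.sum_sum_type] at hc
    simp only [fam, Sum.elim_inl, Sum.elim_inr] at hc
    have h1 := congrArg (e * ·) hc
    simp only [mul_add, mul_zero, Finset.mul_sum, mul_smul_comm, ← mul_assoc, ← he.1] at h1
    simp only [mul_assoc, hv.mem, hev, mul_zero, smul_zero, Finset.sum_const_zero, add_zero] at h1
    have h2 := congrArg (f * ·) hc
    simp only [mul_add, mul_zero, Finset.mul_sum, mul_smul_comm, ← mul_assoc, ← hf.1] at h2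
    simp only [mul_assoc, hw.mem, hfv, mul_zero, smul_zero, Finset.sum_const_zero, zero_add] at h2
    have e1 := coeff_zero he hv hv0 (f := fun u => c (Sum.inl u)) h1
    have e2 := coeff_zero hf hw hw0 (f := fun u => c (Sum.inr u)) h2
    rintro (u | u)
    · exact congr_fun e1 u
    · exact congr_fun e2 u
  have hle : Submodule.span k (Set.range fam) ≤ vspan Z (v + w) := by
    rw [Submodule.span_le]
    rintro _ ⟨u | u, rfl⟩
    · exact hst _ _ hvin
    · exact hst _ _ hwin
  have h1 := finrank_span_eq_card hli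
  have h2 := Submodule.finrank_mono hle
  have h3 : Module.finrank k (vspan Z (v + w)) ≤ Fintype.card Z.V :=
    finrank_range_le_card (fun u : Z.V => g' k (u : G) * (v + w))
  rw [h1, Fintype.card_sum] at h2
  have : 0 < Fintype.card Z.V := Fintype.card_pos
  omega

end

end CfsgLib.DefectZeroBN
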